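import Mathlib
import Cfsg.Agent.Lib.Helper73.HA.Defs

set_option autoImplicit false

/-! Package FIX of project HA: lifting a Hall subgroup of the symmetric group on the points
different from a fixed point `ω`. -/

namespace Cfsg.Agent.Lib.Helper61.HA

open Equiv

universe u

theorem lemFix : Cfsg.Agent.Lib.Helper73.HA.LemFix.{u} := by
  intro Ω _ _ π K ω M₁ h2 hn hfix hM₁ hinter
  have hinj : Function.Injective (Perm.ofSubtype : Perm {x // x ≠ ω} →* Perm Ω) :=
    Perm.ofSubtype_injective
  refine ⟨M₁.map (Perm.ofSubtype : Perm {x // x ≠ ω} →* Perm Ω), ?_, ?_, ?_⟩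
  · intro k hk
    have hkω := hfix k hk
    have h₁ : ∀ x, k x ≠ ω ↔ x ≠ ω := by
      intro x
      constructor
      · intro h hx; exact h (by rw [hx, hkω])
      · intro h hx; apply h; apply k.injective; rw [hx, hkω]
    have h₂ : ∀ x, k x ≠ x → x ≠ ω := by
      intro x h hx; exact h (by rw [hx, hkω])
    have heq : Perm.ofSubtype (Perm.subtypePerm k h₁) = k := Perm.ofSubtype_subtypePerm h₁ h₂
    refine ⟨Perm.subtypePerm k h₁, ?_, heq⟩
    have h3 : Perm.subtypePerm k h₁ ∈
        K.comap (Perm.ofSubtype : Perm {x // x ≠ ω} →* Perm Ω) := by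
      rw [Subgroup.mem_comap, heq]; exact hk
    rw [← hinter] at h3
    exact h3.1
  · intro p hp hdvd
    rw [Subgroup.card_map_of_injective hinj] at hdvd
    exact hM₁.1 p hp hdvd
  · intro hle
    have : Nontrivial {x // x ≠ ω} := by
      apply Fintype.one_lt_card_iff_nontrivial.mp
      have h4 : Fintype.card {x // x ≠ ω} = Fintype.card Ω - 1 := by
        rw [Fintype.card_subtype_compl, Fintype.card_subtype_eq]
      omega
    have hnot : ¬ M₁ ≤ alternatingGroup {x // x ≠ ω} := by
      intro h
      have h1 : (alternatingGroup {x // x ≠ ω}).index ∣ M₁.index := Subgroup.index_dvd_of_le h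
      rw [alternatingGroup.index_eq_two] at h1
      exact hM₁.2 2 Nat.prime_two h2 h1
    apply hnot
    intro m hm
    have h1 : Perm.ofSubtype m ∈ alternatingGroup Ω := hle ⟨m, hm, rfl⟩
    rw [Equiv.Perm.mem_alternatingGroup] at h1 ⊢
    rwa [Perm.sign_ofSubtype] at h1

end Cfsg.Agent.Lib.Helper61.HA
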