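import Mathlib
import Cfsg.Agent.Lib.Helper73.HA.Defs

set_option autoImplicit false

/-! Package TWO of project HA: if 2 is the only prime of `π` up to the degree, a Sylow
2-subgroup of `Sym(Ω)` containing `K` is a `π`-overgroup with an odd element. -/

namespace Cfsg.Agent.Lib.Helper61.HA

open Equiv

universe u

theorem lemTwo : Cfsg.Agent.Lib.Helper73.HA.LemTwo.{u} := by
  intro Ω _ _ π K hK h2 hn hπ
  obtain ⟨hKA, hKπ, -⟩ := hK
  have : Fact (Nat.Prime 2) := ⟨Nat.prime_two⟩
  have : Nontrivial Ω := Fintype.one_lt_card_iff_nontrivial.mp (by omega)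
  have hK2 : IsPGroup 2 K := by
    have hcard : Nat.card K = 2 ^ (Nat.card K).primeFactorsList.length := by
      apply Nat.eq_prime_pow_of_unique_prime_dvd Nat.card_pos.ne'
      intro r hr hdvd
      apply hπ r hr (hKπ r hr hdvd)
      have h1 : r ∣ Nat.card (Perm Ω) := hdvd.trans (Subgroup.card_subgroup_dvd_card K)
      rw [Nat.card_eq_fintype_card, Fintype.card_perm] at h1
      exact (hr.dvd_factorial).mp h1
    exact IsPGroup.of_card hcard
  obtain ⟨P, hP⟩ := hK2.exists_le_sylow
  refine ⟨P, hP, ?_, ?_⟩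
  · intro p hp hdvd
    obtain ⟨k, hk⟩ := IsPGroup.iff_card.mp P.isPGroup'
    rw [hk] at hdvd
    have h3 : p = 2 := (Nat.prime_dvd_prime_iff_eq hp Nat.prime_two).mp (hp.dvd_of_dvd_pow hdvd)
    rw [h3]; exact h2
  · intro hle
    have h1 : (alternatingGroup Ω).index ∣ (P : Subgroup (Perm Ω)).index :=
      Subgroup.index_dvd_of_le hle
    rw [alternatingGroup.index_eq_two] at h1
    exact P.not_dvd_index h1

end Cfsg.Agent.Lib.Helper61.HA
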